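import Mathlib.AlgebraicGeometry.Morphisms.Etale
import Mathlib.AlgebraicGeometry.Morphisms.Flat
import Mathlib.AlgebraicGeometry.Morphisms.FormallyUnramified
import Mathlib.RingTheory.Unramified.LocalRing
import Mathlib.RingTheory.Unramified.Field
import Mathlib.RingTheory.Etale.Basic
import Mathlib.RingTheory.Ideal.KrullsHeightTheorem
import Mathlib.RingTheory.Ideal.MinimalPrime.Noetherian
import Mathlib.RingTheory.RegularLocalRing.Defs
import Groth.Agent.RegularLocal.GlobalDim

/-! Local invariants (dimension, regularity, reducedness) along étale maps. -/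

open IsLocalRing TensorProduct

universe u

namespace Groth.Agent.EtaleLocal.Basic

section

variable {R S : Type u} [CommRing R] [CommRing S] [IsLocalRing R] [IsLocalRing S] [Algebra R S]
  [IsLocalHom (algebraMap R S)] [IsNoetherianRing R] [IsNoetherianRing S] [Module.Flat R S]

theorem ringKrullDim_eq (h : (maximalIdeal R).map (algebraMap R S) = maximalIdeal S) :
    ringKrullDim S = ringKrullDim R := by
  have : (maximalIdeal S).LiesOver (maximalIdeal R) :=
    ⟨(IsLocalRing.maximalIdeal_comap (algebraMap R S)).symm⟩
  rw [← maximalIdeal_height_eq_ringKrullDim, ← maximalIdeal_height_eq_ringKrullDim,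
    Ideal.height_eq_height_add_of_liesOver_of_hasGoingDown (maximalIdeal R) (maximalIdeal S),
    show (maximalIdeal S).map (Ideal.Quotient.mk ((maximalIdeal R).map (algebraMap R S))) = ⊥ from
      (Ideal.map_eq_bot_iff_le_ker _).mpr (by rw [Ideal.mk_ker, h])]
  have : Nontrivial (S ⧸ (maximalIdeal R).map (algebraMap R S)) :=
    Ideal.Quotient.nontrivial_iff.mpr (by rw [h]; exact (maximalIdeal.isMaximal S).ne_top)
  rw [Ideal.height_bot, add_zero]

theorem isRegularLocalRing_iff (h : (maximalIdeal R).map (algebraMap R S) = maximalIdeal S) :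
    IsRegularLocalRing R ↔ IsRegularLocalRing S := by
  refine ⟨fun hR => ?_, fun hS => Groth.Agent.RegularLocal.GlobalDim.isRegularLocalRing_of_flat (R := R) S⟩
  refine IsRegularLocalRing.of_spanFinrank_maximalIdeal_le (R := S) ?_
  rw [ringKrullDim_eq h, ← IsRegularLocalRing.spanFinrank_maximalIdeal (R := R), ← h]
  obtain ⟨s, hs, hspan⟩ := Submodule.FG.exists_span_set_encard_eq_spanFinrank
    (IsNoetherian.noetherian (maximalIdeal R))
  norm_cast
  rw [← hspan, Ideal.map_span]
  have hfin : s.Finite := Set.finite_of_encard_eq_coe hs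
  refine (Submodule.spanFinrank_span_le_ncard_of_finite (hfin.image _)).trans ?_
  refine (Set.ncard_image_le hfin).trans (le_of_eq ?_)
  rw [hspan, Set.ncard, hs]; rfl

end

/-- An étale algebra over a reduced noetherian ring is reduced. -/
theorem isReduced_of_etale (A B : Type u) [CommRing A] [CommRing B] [Algebra A B]
    [IsNoetherianRing A] [IsReduced A] [Algebra.Etale A B] : IsReduced B := by
  have hfin := minimalPrimes.finite_of_isNoetherianRing (R := A)
  have := hfin.to_subtype
  classical
  have := Fintype.ofFinite (minimalPrimes A)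
  have (p : minimalPrimes A) : p.1.IsPrime := p.2.1.1
  let K : minimalPrimes A → Type u := fun p => p.1.ResidueField
  have hinj : Function.Injective (algebraMap A (∀ p, K p)) := by
    rw [injective_iff_map_eq_zero]
    intro a ha
    have : a ∈ nilradical A := by
      rw [nilradical, ← Ideal.sInf_minimalPrimes, Ideal.mem_sInf]
      intro p hp
      have : p.IsPrime := hp.1.1
      exact (Ideal.algebraMap_residueField_eq_zero).mp (congrFun ha ⟨p, hp⟩)
    simpa [nilradical_eq_zero] using this
  refine ⟨fun x hx => Algebra.TensorProduct.includeRight_injective (A := ∀ p, K p) (B := B) hinj ?_⟩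
  rw [map_zero]
  apply (TensorProduct.comm A (∀ p, K p) B).injective
  apply (TensorProduct.piRight A A B K).injective
  funext p
  have hp : IsNilpotent ((1 : K p) ⊗ₜ[A] x) := hx.map (Algebra.TensorProduct.includeRight (R := A) (A := K p))
  have : IsReduced (K p ⊗[A] B) := Algebra.FormallyUnramified.isReduced_of_field (K p) (K p ⊗[A] B)
  have h0 := congrArg (TensorProduct.comm A (K p) B) hp.eq_zero
  simpa [TensorProduct.piRightHom_tmul] using h0

/-- Reducedness ascends along the local homomorphisms of an étale algebra. -/
theorem isReduced_localization_of_etale (A B : Type u) [CommRing A] [CommRing B] [Algebra A B]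
    [Algebra.Etale A B] (q : Ideal B) [q.IsPrime] (p : Ideal A) [p.IsPrime] (hpq : q.comap (algebraMap A B) = p)
    [IsNoetherianRing (Localization.AtPrime p)] [IsReduced (Localization.AtPrime p)] :
    IsReduced (Localization.AtPrime q) := by
  let Ap := Localization.AtPrime p
  have := isReduced_of_etale Ap (Ap ⊗[A] B)
  let M := Algebra.algebraMapSubmonoid B p.primeCompl
  have hloc : IsLocalization M (B ⊗[A] Ap) :=
    inferInstance
  have : IsReduced (B ⊗[A] Ap) :=
    isReduced_of_injective (Algebra.TensorProduct.comm A B Ap).toRingHom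
      (Algebra.TensorProduct.comm A B Ap).injective
  have hM : M ≤ q.primeCompl := by
    rintro _ ⟨a, ha, rfl⟩ hb
    exact ha (hpq ▸ hb)
  let := IsLocalization.localizationAlgebraOfSubmonoidLe (B ⊗[A] Ap) (Localization.AtPrime q) M q.primeCompl hM
  have := IsLocalization.localization_isScalarTower_of_submonoid_le (B ⊗[A] Ap) (Localization.AtPrime q) M q.primeCompl hM
  have := IsLocalization.isLocalization_of_submonoid_le (B ⊗[A] Ap) (Localization.AtPrime q) M q.primeCompl hM
  exact isReduced_localizationPreserves (Submonoid.map (algebraMap B (B ⊗[A] Ap)) q.primeCompl)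
    (Localization.AtPrime q) inferInstance

open AlgebraicGeometry in
/-- The stalk maps of an unramified morphism carry maximal ideal onto maximal ideal. -/
theorem map_maximalIdeal_stalkMap {X Y : AlgebraicGeometry.Scheme.{u}} (f : X ⟶ Y) [FormallyUnramified f] [LocallyOfFiniteType f] (x : X) :
    (maximalIdeal (Y.presheaf.stalk (f x))).map (f.stalkMap x).hom = maximalIdeal (X.presheaf.stalk x) := by
  algebraize [(f.stalkMap x).hom]
  have : IsLocalHom (algebraMap (Y.presheaf.stalk (f x)) (X.presheaf.stalk x)) :=
    inferInstanceAs <| IsLocalHom (f.stalkMap x).hom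
  have : Algebra.EssFiniteType (Y.presheaf.stalk (f x)) (X.presheaf.stalk x) := by
    rw [← RingHom.essFiniteType_algebraMap, RingHom.algebraMap_toAlgebra]
    exact LocallyOfFiniteType.stalkMap f x
  have : Algebra.FormallyUnramified (Y.presheaf.stalk (f x)) (X.presheaf.stalk x) := by
    rw [← RingHom.formallyUnramified_algebraMap, RingHom.algebraMap_toAlgebra]
    exact FormallyUnramified.stalkMap f x
  exact Algebra.FormallyUnramified.map_maximalIdeal

end Groth.Agent.EtaleLocal.Basic
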